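import Mathlib.GroupTheory.Sylow
import Cfsg.Agent.H777.M5.PGDef

/-!
# `PG` is a Sylow 5-subgroup of every group with `PData` and order not divisible by `5 ^ 10` (helper411, task M5-E)
-/

set_option autoImplicit false

namespace Cfsg.Agent.H411.M5

open Matrix
open Cfsg.Agent.H777.M5

theorem pow_val_add' {G : Type*} [Group G] {x : G} (hx : x ^ 5 = 1) (c d : ZMod 5) :
    x ^ (c + d).val = x ^ c.val * x ^ d.val := by
  rw [ZMod.val_add, ← pow_add]
  conv_rhs => rw [← Nat.div_add_mod (c.val + d.val) 5, pow_add, pow_mul, hx, one_pow, one_mul]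

theorem conj_pow_of {G : Type*} [Group G] {w : V6 → G} {a : G} {M : Matrix (Fin 6) (Fin 6) (ZMod 5)}
    (h : ∀ v, a * w v * a⁻¹ = w (M *ᵥ v)) (n : ℕ) (v : V6) : a ^ n * w v = w ((M ^ n) *ᵥ v) * a ^ n := by
  induction n with
  | zero => simp
  | succ n ih =>
    have h1 : ∀ v, a * w v = w (M *ᵥ v) * a := fun v => by rw [← h v, inv_mul_cancel_right]
    rw [pow_succ' a, mul_assoc, ih, ← mul_assoc, h1, mul_assoc, ← pow_succ' a, mulVec_mulVec, ← pow_succ']

theorem om_nondeg {u : V6} (h : ∀ v, om u v = 0) : u = 0 := by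
  funext k
  have h0 := h (Pi.single 0 1)
  have h1 := h (Pi.single 1 1)
  have h2 := h (Pi.single 2 1)
  have h3 := h (Pi.single 3 1)
  have h4 := h (Pi.single 4 1)
  have h5 := h (Pi.single 5 1)
  simp [om] at h0 h1 h2 h3 h4 h5
  fin_cases k <;> simp_all

theorem mat_eq_one : ∀ i j : ZMod 5, mat i j = 1 → i = 0 ∧ j = 0 := by decide +kernel

theorem act_eq {i j : ZMod 5} (h : ∀ u, act i j u = u) : i = 0 ∧ j = 0 := by
  apply mat_eq_one
  ext r c
  have := congrFun (h (Pi.single c 1)) r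
  rw [act, mulVec_single_one] at this
  simpa [Matrix.one_apply, Pi.single_apply, eq_comm] using this

namespace PDat

variable {G : Type*} [Group G] (P : PData G)

theorem x_pow_w (n : ℕ) (v : V6) : P.x ^ n * P.w v = P.w v * P.x ^ n :=
  ((show Commute P.x (P.w v) from P.x_w v).pow_left n).eq

theorem x_pow_a (n m : ℕ) : P.x ^ n * P.a ^ m = P.a ^ m * P.x ^ n :=
  ((show Commute P.x P.a from P.x_a).pow_pow n m).eq

theorem x_pow_b (n m : ℕ) : P.x ^ n * P.b ^ m = P.b ^ m * P.x ^ n :=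
  ((show Commute P.x P.b from P.x_b).pow_pow n m).eq

theorem ab_w (i j : ZMod 5) (v : V6) :
    P.a ^ i.val * P.b ^ j.val * P.w v = P.w (act i j v) * (P.a ^ i.val * P.b ^ j.val) := by
  rw [mul_assoc, conj_pow_of P.b_w, ← mul_assoc, conj_pow_of P.a_w, mul_assoc, act, mat, mulVec_mulVec]

/-- the homomorphism `PG → G` -/
def hom : PG →* G where
  toFun g := P.w g.v * P.x ^ g.c.val * (P.a ^ g.i.val * P.b ^ g.j.val)
  map_one' := by
    have h : P.w 0 = 1 := by
      have := P.w_mul 0 0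
      rw [om_self, mul_zero, ZMod.val_zero, pow_zero, mul_one, add_zero] at this
      exact mul_eq_left.1 this
    simp [h]
  map_mul' g h := by
    simp only [PG.mul_v, PG.mul_c, PG.mul_i, PG.mul_j]
    rw [pow_val_add' P.x_five, pow_val_add' P.x_five, pow_val_add' P.a_five, pow_val_add' P.b_five]
    have e1 : P.a ^ g.i.val * P.a ^ h.i.val * (P.b ^ g.j.val * P.b ^ h.j.val) =
        (P.a ^ g.i.val * P.b ^ g.j.val) * (P.a ^ h.i.val * P.b ^ h.j.val) := by
      have := ((show Commute P.a P.b from P.a_b).pow_pow h.i.val g.j.val).eq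
      rw [mul_assoc, mul_assoc, ← mul_assoc (P.a ^ h.i.val), this, mul_assoc]
    rw [e1]
    have e2 : P.w (g.v + act g.i g.j h.v) * (P.x ^ g.c.val * P.x ^ h.c.val * P.x ^ (3 * om g.v (act g.i g.j h.v)).val) =
        P.w g.v * P.x ^ g.c.val * (P.w (act g.i g.j h.v) * P.x ^ h.c.val) := by
      have e4 : P.x ^ g.c.val * P.x ^ h.c.val * P.x ^ (3 * om g.v (act g.i g.j h.v)).val =
          P.x ^ (3 * om g.v (act g.i g.j h.v)).val * (P.x ^ g.c.val * P.x ^ h.c.val) := by
        rw [← pow_add, ← pow_add, ← pow_add, add_comm]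
      rw [e4, ← mul_assoc, ← P.w_mul, mul_assoc, mul_assoc, ← mul_assoc (P.w (act g.i g.j h.v)), ← x_pow_w P, mul_assoc]
    rw [e2]
    have e3 : P.a ^ g.i.val * P.b ^ g.j.val * P.x ^ h.c.val = P.x ^ h.c.val * (P.a ^ g.i.val * P.b ^ g.j.val) := by
      rw [mul_assoc, ← x_pow_b P, ← mul_assoc, ← x_pow_a P, mul_assoc]
    calc P.w g.v * P.x ^ g.c.val * (P.w (act g.i g.j h.v) * P.x ^ h.c.val) *
          (P.a ^ g.i.val * P.b ^ g.j.val * (P.a ^ h.i.val * P.b ^ h.j.val))
        = P.w g.v * P.x ^ g.c.val * (P.w (act g.i g.j h.v) * ((P.x ^ h.c.val *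
          (P.a ^ g.i.val * P.b ^ g.j.val)) * (P.a ^ h.i.val * P.b ^ h.j.val))) := by simp only [mul_assoc]
      _ = P.w g.v * P.x ^ g.c.val * ((P.w (act g.i g.j h.v) * (P.a ^ g.i.val * P.b ^ g.j.val)) *
          (P.x ^ h.c.val * (P.a ^ h.i.val * P.b ^ h.j.val))) := by rw [← e3]; simp only [mul_assoc]
      _ = P.w g.v * P.x ^ g.c.val * (P.a ^ g.i.val * P.b ^ g.j.val) *
          (P.w h.v * P.x ^ h.c.val * (P.a ^ h.i.val * P.b ^ h.j.val)) := by rw [← ab_w]; simp only [mul_assoc]

@[simp] theorem hom_apply (g : PG) : hom P g = P.w g.v * P.x ^ g.c.val * (P.a ^ g.i.val * P.b ^ g.j.val) := rfl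

theorem x_pow_eq_one {c : ZMod 5} (h : P.x ^ c.val = 1) : c = 0 := by
  have : Fact (Nat.Prime 5) := ⟨Nat.prime_five⟩
  have : orderOf P.x = 5 := orderOf_eq_prime P.x_five P.x_ne
  have h2 := orderOf_dvd_of_pow_eq_one h
  rw [this] at h2
  have h3 := Nat.eq_zero_of_dvd_of_lt h2 (ZMod.val_lt c)
  exact (ZMod.val_eq_zero c).1 h3

theorem w_conj (u v : V6) : P.w u * P.w v = P.w v * P.w u * P.x ^ (om u v).val := by
  rw [P.w_mul, P.w_mul, mul_assoc, ← pow_val_add' P.x_five, add_comm v u, om_swap u v]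
  congr 3
  have h5 : (5 : ZMod 5) = 0 := by decide
  linear_combination (om u v) * h5

theorem w_ker {v : V6} {c : ZMod 5} (h : P.w v * P.x ^ c.val = 1) : v = 0 := by
  refine om_nondeg fun u => ?_
  apply x_pow_eq_one P
  have h1 := w_conj P v u
  have h2 : P.w v = (P.x ^ c.val)⁻¹ := eq_inv_of_mul_eq_one_left h
  have h3 : P.w v * P.w u = P.w u * P.w v := by
    rw [h2, inv_mul_eq_iff_eq_mul, ← mul_assoc, x_pow_w P, mul_inv_cancel_right]
  rw [h3] at h1
  exact left_eq_mul.1 h1

theorem hom_injective : Function.Injective (hom P) := by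
  rw [injective_iff_map_eq_one]
  intro g hg
  -- `g` acts trivially on `w u`
  have key : ∀ u, P.w (act g.i g.j u) * P.x ^ (om g.v (act g.i g.j u)).val = P.w u := by
    intro u
    have h1 : hom P g * P.w u = P.w u * hom P g := by rw [hg, one_mul, mul_one]
    have h2 : hom P g * P.w u = (P.w (act g.i g.j u) * P.x ^ (om g.v (act g.i g.j u)).val) * hom P g := by
      rw [hom_apply, mul_assoc, ab_w, ← mul_assoc, mul_assoc (P.w g.v), x_pow_w P, ← mul_assoc (P.w g.v), w_conj P]
      have e := x_pow_w P (om g.v (act g.i g.j u)).val g.v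
      simp only [mul_assoc]
      congr 1
      simp only [← mul_assoc]
      rw [e]
    rw [h2] at h1
    exact mul_right_cancel h1
  have act1 : ∀ u, act g.i g.j u = u := by
    intro u
    have h1 := key u
    have h2 : P.w (act g.i g.j u - u) * P.x ^ (3 * om (act g.i g.j u) (-u) + om g.v (act g.i g.j u)).val = 1 := by
      rw [pow_val_add' P.x_five, ← mul_assoc, sub_eq_add_neg, ← P.w_mul, mul_assoc, ← x_pow_w P, ← mul_assoc, h1,
        P.w_mul, add_neg_cancel, om_neg_right, om_self]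
      have h : P.w 0 = 1 := by
        have := P.w_mul 0 0
        rw [om_self, mul_zero, ZMod.val_zero, pow_zero, mul_one, add_zero] at this
        exact mul_eq_left.1 this
      simp [h]
    exact sub_eq_zero.1 (w_ker P h2)
  obtain ⟨hi, hj⟩ := act_eq act1
  have hv : g.v = 0 := by
    refine om_nondeg fun u => ?_
    have h1 := key u
    rw [act1] at h1
    exact x_pow_eq_one P (mul_eq_left.1 h1)
  have hc : g.c = 0 := by
    apply x_pow_eq_one P
    have h : P.w 0 = 1 := by
      have := P.w_mul 0 0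
      rw [om_self, mul_zero, ZMod.val_zero, pow_zero, mul_one, add_zero] at this
      exact mul_eq_left.1 this
    have h2 := hg
    rw [hom_apply, hi, hj, hv, h] at h2
    simpa using h2
  exact PG.ext hv hc hi hj

theorem card_range : Nat.card (hom P).range = 5 ^ 9 := by
  rw [← PG.card_PG]
  exact (Nat.card_congr (MonoidHom.ofInjective (hom_injective P)).toEquiv).symm

theorem mem_range {g : G} : g ∈ (hom P).range ↔
    ∃ (v : V6) (c i j : ZMod 5), g = P.w v * P.x ^ c.val * P.a ^ i.val * P.b ^ j.val := by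
  constructor
  · rintro ⟨p, rfl⟩
    exact ⟨p.v, p.c, p.i, p.j, by rw [hom_apply, mul_assoc _ (P.a ^ _)]⟩
  · rintro ⟨v, c, i, j, rfl⟩
    exact ⟨⟨v, c, i, j⟩, by rw [hom_apply, mul_assoc _ (P.a ^ _)]⟩

end PDat

theorem isPGroup_PG : IsPGroup 5 PG := IsPGroup.of_card PG.card_PG

/-- **M5-E** -/
theorem exists_equiv_sylow {G : Type} [Group G] [Finite G] (P : PData G) (h : ¬ 5 ^ 10 ∣ Nat.card G) (T : Sylow 5 G) :
    Nonempty (PG ≃* ↥(T : Subgroup G)) := by
  have : Fact (Nat.Prime 5) := ⟨Nat.prime_five⟩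
  have hR : IsPGroup 5 (PDat.hom P).range := IsPGroup.of_card (PDat.card_range P)
  obtain ⟨T', hT'⟩ := hR.exists_le_sylow
  have hcard : Nat.card (T' : Subgroup G) = 5 ^ 9 := by
    rw [Sylow.card_eq_multiplicity]
    congr 1
    apply le_antisymm
    · by_contra hlt
      push Not at hlt
      exact h ((Nat.prime_five.pow_dvd_iff_le_factorization Nat.card_pos.ne').2 hlt)
    · rw [← Nat.prime_five.pow_dvd_iff_le_factorization Nat.card_pos.ne', ← PDat.card_range P]
      exact Subgroup.card_subgroup_dvd_card _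
  have heq : (PDat.hom P).range = (T' : Subgroup G) := by
    apply Subgroup.eq_of_le_of_card_ge hT'
    rw [hcard, PDat.card_range P]
  obtain ⟨g, hg⟩ := MulAction.exists_smul_eq G T' T
  have e1 : PG ≃* (PDat.hom P).range := MonoidHom.ofInjective (PDat.hom_injective P)
  have e2 : (T' : Subgroup G) ≃* (T : Subgroup G) := by
    rw [← hg]
    exact T'.equivSMul g
  exact ⟨e1.trans ((MulEquiv.subgroupCongr heq).trans e2)⟩

end Cfsg.Agent.H411.M5
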